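import Cfsg.Agent.H9.O6.Kl4
import Cfsg.Agent.H9.E4.R0
import Cfsg.Agent.H7.AschFF

/-! The Weyl group of `E₆` and `SU₄(2)`. -/

set_option autoImplicit false
set_option linter.unusedSimpArgs false
set_option linter.unusedSectionVars false
set_option linter.unusedVariables false

namespace Cfsg.Agent.H5.E4U

open Matrix Cfsg.Agent.H9.O6 Cfsg.Agent.H9.E4 Cfsg.Agent.H7 Cfsg.Agent.H5.U Cfsg.Agent.H6 Cfsg.Agent.Orth

/-- the reflection in a root -/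
def rf (n l : Fin 6 → ℤ) : Fin 6 → ℤ := l - (n ⬝ᵥ C6 *ᵥ l) • n

/-- reduction modulo two -/
def xv (n : Fin 6 → ℤ) : Fin 3 → F4 :=
  ![⟨(n 0 : ZMod 2) + n 2, n 1⟩, ⟨n 3, (n 2 : ZMod 2) + n 4⟩, ⟨n 5, n 2⟩]

instance nstarF4 : NStar F4 := ⟨by decide⟩

theorem two0 : (2 : F4) = 0 := by decide

theorem neg_F4 (x : F4) : -x = x := by revert x; decide

theorem neg_M (X : Matrix (Fin 4) (Fin 4) F4) : -X = X := by ext i j : 1; exact neg_F4 _

theorem xv_add (n l : Fin 6 → ℤ) : xv (n + l) = xv n + xv l := by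
  ext i <;> fin_cases i <;> simp [xv] <;> ring

theorem xv_smul (c : ℤ) (n : Fin 6 → ℤ) : xv (c • n) = (c : F4) • xv n := by
  ext i <;> fin_cases i <;> simp [xv] <;> ring

theorem xv_B (n l : Fin 6 → ℤ) :
    xv n ⬝ᵥ star (xv l) + xv l ⬝ᵥ star (xv n) = ((n ⬝ᵥ C6 *ᵥ l : ℤ) : F4) := by
  ext <;> simp [xv, C6, dotProduct, mulVec, Fin.sum_univ_succ, two0] <;> ring_nf <;> reduce_mod_char

theorem xv_N {n : Fin 6 → ℤ} (h : n ⬝ᵥ C6 *ᵥ n = 2) : xv n ⬝ᵥ star (xv n) = 1 := by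
  have e : n 0 * n 0 + n 1 * n 1 + n 2 * n 2 + n 3 * n 3 + n 4 * n 4 + n 5 * n 5 - n 0 * n 1 - n 1 * n 2 -
      n 2 * n 3 - n 3 * n 4 - n 2 * n 5 = 1 := by
    simp [C6, dotProduct, mulVec, Fin.sum_univ_succ] at h
    linarith
  have := congrArg (Int.cast : ℤ → ZMod 2) e
  push_cast at this
  unfold xv
  generalize (n 0 : ZMod 2) = a, (n 1 : ZMod 2) = b, (n 2 : ZMod 2) = c, (n 3 : ZMod 2) = d,
    (n 4 : ZMod 2) = e, (n 5 : ZMod 2) = f at this ⊢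
  revert a b c d e f
  decide +kernel

/-- the positive roots -/
def roots : List (Fin 6 → ℤ) :=
  [![0, 0, 0, 0, 0, 1], ![0, 0, 0, 0, 1, 0], ![0, 0, 0, 1, 0, 0], ![0, 0, 0, 1, 1, 0], ![0, 0, 1, 0,
  0, 0], ![0, 0, 1, 0, 0, 1], ![0, 0, 1, 1, 0, 0], ![0, 0, 1, 1, 0, 1], ![0, 0, 1, 1, 1, 0], ![0, 0,
  1, 1, 1, 1], ![0, 1, 0, 0, 0, 0], ![0, 1, 1, 0, 0, 0], ![0, 1, 1, 0, 0, 1], ![0, 1, 1, 1, 0, 0],
  ![0, 1, 1, 1, 0, 1], ![0, 1, 1, 1, 1, 0], ![0, 1, 1, 1, 1, 1], ![0, 1, 2, 1, 0, 1], ![0, 1, 2, 1, 1,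
  1], ![0, 1, 2, 2, 1, 1], ![1, 0, 0, 0, 0, 0], ![1, 1, 0, 0, 0, 0], ![1, 1, 1, 0, 0, 0], ![1, 1, 1,
  0, 0, 1], ![1, 1, 1, 1, 0, 0], ![1, 1, 1, 1, 0, 1], ![1, 1, 1, 1, 1, 0], ![1, 1, 1, 1, 1, 1], ![1,
  1, 2, 1, 0, 1], ![1, 1, 2, 1, 1, 1], ![1, 1, 2, 2, 1, 1], ![1, 2, 2, 1, 0, 1], ![1, 2, 2, 1, 1, 1],
  ![1, 2, 2, 2, 1, 1], ![1, 2, 3, 2, 1, 1], ![1, 2, 3, 2, 1, 2]]

theorem roots_norm : ∀ n ∈ roots, n ⬝ᵥ C6 *ᵥ n = 2 := by decide +kernel

theorem roots_on : ∀ a b c : F4, ![a, b, c] ⬝ᵥ star ![a, b, c] = 1 → ∃ n ∈ roots, xv n = ![a, b, c] := by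
  decide +kernel

set_option synthInstance.maxSize 2000 in
theorem split : ∀ a b c : F4, ![a, b, c] ⬝ᵥ star ![a, b, c] = 0 → ∀ d e f : F4,
    ![d, e, f] ⬝ᵥ star ![d, e, f] ≠ 1 → ![a, b, c] ⬝ᵥ star ![d, e, f] + ![d, e, f] ⬝ᵥ star ![a, b, c] = 0 →
    ∃ g h i : F4, ![g, h, i] ⬝ᵥ star ![g, h, i] = 1 ∧
      ![a, b, c] ⬝ᵥ star ![g, h, i] + ![g, h, i] ⬝ᵥ star ![a, b, c] = 0 ∧
      (![d, e, f] + ![g, h, i]) ⬝ᵥ star (![d, e, f] + ![g, h, i]) = 1 := by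
  decide +kernel

theorem vec3 (p : Fin 3 → F4) : p = ![p 0, p 1, p 2] := by ext i : 1; fin_cases i <;> rfl

/-- the alternating matrices -/
def J (p : Fin 3 → F4) : Matrix (Fin 4) (Fin 4) F4 := alt F4 (p, star p)

/-- their conjugates -/
def J' (p : Fin 3 → F4) : Matrix (Fin 4) (Fin 4) F4 := alt F4 (star p, p)

variable {p r s : Fin 3 → F4}

theorem J_add (p r : Fin 3 → F4) : J (p + r) = J p + J r := by rw [J, J, J, ← map_add, star_add]; rfl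
theorem J'_add (p r : Fin 3 → F4) : J' (p + r) = J' p + J' r := by rw [J', J', J', ← map_add, star_add]; rfl
theorem J_smul (c : ℤ) (p : Fin 3 → F4) : J ((c : F4) • p) = (c : F4) • J p := by
  rw [J, J, ← map_smul, star_smul, star_intCast]; rfl
theorem J_T (p : Fin 3 → F4) : (J p)ᵀ = J p := by rw [J, alt_T, neg_M]
theorem J'_T (p : Fin 3 → F4) : (J' p)ᵀ = J' p := by rw [J', alt_T, neg_M]
theorem J_star (p : Fin 3 → F4) : (J p).map (starRingEnd F4) = J' p := by rw [J, alt_star, star_star, J']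
theorem J'_star (p : Fin 3 → F4) : (J' p).map (starRingEnd F4) = J p := by rw [J', alt_star, star_star, J]
theorem JJ (p : Fin 3 → F4) : J p * J' p = (p ⬝ᵥ star p) • 1 := by rw [J, J', alt_sq, neg_F4]
theorem JJ' (p : Fin 3 → F4) : J' p * J p = (p ⬝ᵥ star p) • 1 := by
  rw [J, J', alt_sq, neg_F4, dotProduct_comm]

theorem anti (p r : Fin 3 → F4) : J p * J' r = (p ⬝ᵥ star r + r ⬝ᵥ star p) • 1 + J r * J' p := by
  have := JJ (p + r)
  simp only [J_add, J'_add, add_mul, mul_add, JJ, star_add, add_dotProduct, dotProduct_add, add_smul] at this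
  rw [← neg_M (J r * J' p)]
  linear_combination (norm := module) this

theorem anti' (p r : Fin 3 → F4) : J' p * J r = (p ⬝ᵥ star r + r ⬝ᵥ star p) • 1 + J' r * J p := by
  have := JJ' (p + r)
  simp only [J_add, J'_add, add_mul, mul_add, JJ', star_add, add_dotProduct, dotProduct_add, add_smul] at this
  rw [← neg_M (J' r * J p)]
  linear_combination (norm := module) this

theorem det_alt (p r : Fin 3 → F4) : (alt F4 (p, r)).det = (p ⬝ᵥ r) ^ 2 := by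
  simp [alt, det_succ_row_zero, Fin.sum_univ_succ, dotProduct, Fin.succAbove]; ring

theorem mem_SU {A : SpecialLinearGroup (Fin 4) F4} :
    A ∈ SU 4 F4 2 ↔ A.1ᵀ * A.1.map (starRingEnd F4) = 1 := by
  refine Iff.trans ?_ (mem_GU_mat (g := A.toGL))
  have e : ∀ x : F4, x ^ 2 = star x := by decide
  refine forall₂_congr fun u v => ?_
  simp [hermForm, e, dotProduct, stdHF, slToMat]
  rfl

/-- the product of two reflections -/
def mm (hp : p ⬝ᵥ star p = 1) (hr : r ⬝ᵥ star r = 1) : SU 4 F4 2 :=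
  ⟨⟨J p * J' r, by rw [det_mul, J, J', det_alt, det_alt, hp, dotProduct_comm, hr]; simp⟩, mem_SU.2 (by
    change (J p * J' r)ᵀ * (J p * J' r).map _ = 1
    rw [transpose_mul, Matrix.map_mul, J_T, J'_T, J_star, J'_star, mul_assoc, ← mul_assoc (J p), JJ, hp,
      one_smul, one_mul, JJ', hr, one_smul])⟩

/-- the graph of the action -/
def Rl (m : SU 4 F4 2) (σ : (Fin 6 → ℤ) → Fin 6 → ℤ) : Prop :=
  ∀ l, m.1.1 * J (xv l) * m.1.1ᵀ = J (xv (σ l))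

theorem xv_rf (n l : Fin 6 → ℤ) : xv (rf n l) = xv l + ((-(n ⬝ᵥ C6 *ᵥ l) : ℤ) : F4) • xv n := by
  rw [rf, sub_eq_add_neg, ← neg_smul, xv_add, xv_smul]

theorem J_rf {n : Fin 6 → ℤ} (h : n ⬝ᵥ C6 *ᵥ n = 2) (l : Fin 6 → ℤ) :
    J (xv n) * J' (xv l) * J (xv n) = J (xv (rf n l)) := by
  rw [anti, xv_B, add_mul, mul_assoc, JJ', xv_N h, xv_rf, J_add, J_smul, Int.cast_neg, neg_F4]
  simp [add_comm]

theorem Rl_mm {n n' : Fin 6 → ℤ} (h : n ⬝ᵥ C6 *ᵥ n = 2) (h' : n' ⬝ᵥ C6 *ᵥ n' = 2) :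
    Rl (mm (xv_N h) (xv_N h')) (rf n ∘ rf n') := fun l => by
  have := congrArg (·.map (starRingEnd F4)) (J_rf h' l)
  simp only [Matrix.map_mul, J_star, J'_star] at this
  change J _ * J' _ * _ * (J _ * J' _)ᵀ = _
  rw [transpose_mul, J_T, J'_T, Function.comp, ← J_rf h, ← this]
  simp only [mul_assoc]

theorem gen (M : Subgroup (SU 4 F4 2)) (h : ∀ p r hp hr, mm (p := p) (r := r) hp hr ∈ M) : M = ⊤ := by
  let f : SU 4 F4 2 →* GL (Fin 4) F4 := SpecialLinearGroup.toGL.comp (SU 4 F4 2).subtype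
  have hf : Function.Injective f := SpecialLinearGroup.toGL_injective.comp Subtype.val_injective
  have key : ∀ u w : Fin 3 → F4, u ⬝ᵥ star u = 0 → u ⬝ᵥ star w + w ⬝ᵥ star u = 0 → w ⬝ᵥ star w = 1 →
      ∃ m ∈ M, m.1.1 = 1 + J u * J' w := fun u w h1 h2 h3 =>
    ⟨_, h (w + u) w (by
      simp only [star_add, add_dotProduct, dotProduct_add]
      linear_combination h1 + h2 + h3) h3, by
      change J _ * J' _ = _
      rw [J_add, add_mul, JJ, h3, one_smul]⟩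
  have := (kl_SU F4).gen (M.map f) fun u w g _ h1 h2 e => by
    have h1 : u ⬝ᵥ star u = 0 := neg_eq_zero.1 (congrArg Subtype.val h1)
    have h2 : u ⬝ᵥ star w + w ⬝ᵥ star u = 0 := neg_eq_zero.1 ((B_of (p := .id) (r := cj F4)
      (Q := QU F4) (fun _ => rfl) u w).symm.trans (congrArg Subtype.val h2))
    have e : g.1 = 1 + J u * J' w := by rw [← neg_M (J u * _), ← sub_eq_add_neg]; exact e
    by_cases h3 : w ⬝ᵥ star w = 1
    · obtain ⟨m, hm, e'⟩ := key u w h1 h2 h3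
      exact ⟨m, hm, Units.ext (e'.trans e.symm)⟩
    rw [vec3 u] at h1
    rw [vec3 w] at h3
    rw [vec3 u, vec3 w] at h2
    obtain ⟨a, b, c, h4, h5, h6⟩ := split _ _ _ h1 _ _ _ h3 h2
    rw [← vec3 u] at h1 h5
    rw [← vec3 w] at h6
    rw [← vec3 u, ← vec3 w] at h2
    generalize ![a, b, c] = s at h4 h5 h6
    obtain ⟨m, hm, e1⟩ := key u s h1 h5 h4
    obtain ⟨m', hm', e2⟩ := key u (w + s) h1 (by
      simp only [star_add, add_dotProduct, dotProduct_add]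
      linear_combination h2 + h5) h6
    refine ⟨m * m', M.mul_mem hm hm', Units.ext ?_⟩
    change m.1.1 * m'.1.1 = _
    have e3 : J u * J' s * J u = 0 := by
      rw [mul_assoc, anti', add_comm (s ⬝ᵥ _), h5, zero_smul, zero_add, ← mul_assoc, JJ, h1]; simp
    rw [e1, e2, e, add_mul, one_mul, mul_add, mul_one, ← mul_assoc, e3, zero_mul, add_zero, J'_add, mul_add,
      add_assoc, add_assoc]
    nth_rw 1 [← neg_M (J u * J' s)]
    rw [neg_add_cancel, add_zero]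
  refine eq_top_iff.2 fun m _ => (Subgroup.mem_map_iff_mem hf).1 (this ⟨mem_GU_mat.2 (mem_SU.1 m.2), ?_⟩)
  exact Units.ext m.1.2

theorem gen' (M : Subgroup (SU 4 F4 2)) (h : ∀ n n' (h : n ⬝ᵥ C6 *ᵥ n = 2) (h' : n' ⬝ᵥ C6 *ᵥ n' = 2),
    mm (xv_N h) (xv_N h') ∈ M) : M = ⊤ := gen M fun p r hp hr => by
  obtain ⟨n, hn, e⟩ := roots_on _ _ _ (vec3 p ▸ hp)
  obtain ⟨n', hn', e'⟩ := roots_on _ _ _ (vec3 r ▸ hr)
  rw [← vec3] at e e'
  subst e e'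
  exact h n n' (roots_norm n hn) (roots_norm n' hn')

theorem cen {m : SU 4 F4 2} (h : ∀ l, m.1.1 * J (xv l) * m.1.1ᵀ = J (xv l)) : m ∈ Subgroup.center _ := by
  refine Set.singleton_subset_iff.1 (Subgroup.centralizer_eq_top_iff_subset.1 ?_)
  refine gen' _ fun n n' hn hn' => Subgroup.mem_centralizer_singleton_iff.2 (Subtype.ext (Subtype.ext ?_))
  change J _ * J' _ * m.1.1 = m.1.1 * (J _ * J' _)
  have e := congrArg (·.map (starRingEnd F4)) (h n')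
  have e1 := mem_SU.1 m.2
  have e2 := congrArg transpose e1
  simp only [Matrix.map_mul, J_star, transpose_map, transpose_mul, transpose_transpose, transpose_one] at e e2
  have h0 := h n
  generalize m.1.1 = X at h0 e e1 e2 ⊢
  generalize X.map (starRingEnd F4) = Y at e e1 e2
  calc _ = X * J (xv n) * Xᵀ * (Y * J' (xv n') * Yᵀ) * X := by rw [h0, e]
    _ = X * J (xv n) * (Xᵀ * Y) * J' (xv n') * (Yᵀ * X) := by simp only [mul_assoc]
    _ = _ := by rw [e1, e2, mul_one, mul_one, mul_assoc]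

theorem e6_cert : ∃ Rl : SU 4 F4 2 → ((Fin 6 → ℤ) → Fin 6 → ℤ) → Prop, Rl 1 id ∧
    (∀ m m' σ σ', Rl m σ → Rl m' σ' → Rl (m * m') (σ ∘ σ')) ∧
    (∀ n n', n ⬝ᵥ C6 *ᵥ n = 2 → n' ⬝ᵥ C6 *ᵥ n' = 2 → ∃ m, Rl m (rf n ∘ rf n')) ∧
    (∀ m σ, Rl m σ → (∀ i, σ (Pi.single i 1) = Pi.single i 1 ∨ σ (Pi.single i 1) = -Pi.single i 1) →
      m ∈ Subgroup.center _) ∧
    (∀ M : Subgroup (SU 4 F4 2), (∀ n n' m, n ⬝ᵥ C6 *ᵥ n = 2 → n' ⬝ᵥ C6 *ᵥ n' = 2 →
      Rl m (rf n ∘ rf n') → m ∈ M) → M = ⊤) ∧ Nontrivial (PSU 4 F4 2) := by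
  refine ⟨Rl, fun l => by simp, fun m m' σ σ' h h' l => ?_, fun n n' h h' => ⟨_, Rl_mm h h'⟩,
    fun m σ h h' => cen fun l => ?_, fun M h => gen' M fun n n' a b => h n n' _ a b (Rl_mm a b), ?_⟩
  · change m.1.1 * m'.1.1 * _ * (m.1.1 * m'.1.1)ᵀ = _
    rw [Function.comp, ← h, ← h', transpose_mul]
    simp only [mul_assoc]
  · have e : ∀ i, m.1.1 * J (xv (Pi.single i 1)) * m.1.1ᵀ = J (xv (Pi.single i 1)) := fun i => by
      rw [h]
      rcases h' i with e | e <;> rw [e]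
      rw [← neg_one_smul ℤ, xv_smul, Int.cast_neg, neg_F4, Int.cast_one, one_smul]
    induction l using Pi.single_induction with
    | zero => simp [show xv 0 = 0 by decide, J, ← Prod.zero_eq_mk]
    | add a b ha hb => rw [xv_add, J_add, mul_add, add_mul, ha, hb]
    | single i c =>
      rw [show Pi.single i c = c • (Pi.single i 1 : Fin 6 → ℤ) by rw [← Pi.single_smul]; simp, xv_smul, J_smul,
        mul_smul_comm, smul_mul_assoc, e]
  · refine QuotientGroup.nontrivial_iff.2 fun e => ?_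
    have a : (![1, 0, 0] : Fin 3 → F4) ⬝ᵥ star ![1, 0, 0] = 1 := by decide
    have b : (![0, 1, 0] : Fin 3 → F4) ⬝ᵥ star ![0, 1, 0] = 1 := by decide
    have c : (![⟨0, 1⟩, 0, 0] : Fin 3 → F4) ⬝ᵥ star ![⟨0, 1⟩, 0, 0] = 1 := by decide
    have := congrArg (fun m : SU 4 F4 2 => m.1.1) (Subgroup.mem_center_iff.1 (e ▸ Subgroup.mem_top (mm a b)) (mm a c))
    revert this
    change J _ * J' _ * (J _ * J' _) ≠ J _ * J' _ * (J _ * J' _)
    decide +kernel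

end Cfsg.Agent.H5.E4U
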